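import Cfsg.Agent.MaxPearl.Chain
import Cfsg.Agent.PLocalBasics.Regular

/-!
`p`-groups of class less than `p` are regular, through the group of functions on finite sets
(the binomial expansion of `a^m b^m` in the manner of P. Hall).
-/

set_option autoImplicit false
set_option linter.style.haveILetI false

open scoped commutatorElement

namespace CfsgLib.RegularClass

variable {G : Type*} [Group G]

/-- `γ i`, indexed from `1`. -/
abbrev gam (G : Type*) [Group G] (i : ℕ) : Subgroup G := (⊤ : Subgroup G).lowerCentralSeries (i - 1)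

theorem gam_anti {i j : ℕ} (h : i ≤ j) : gam G j ≤ gam G i :=
  Subgroup.lowerCentralSeries_antitone _ (by omega)

theorem gam_comm {i j : ℕ} (hi : 1 ≤ i) (hj : 1 ≤ j) : ⁅gam G i, gam G j⁆ ≤ gam G (i + j) :=
  (CfsgLib.MaxPearl.commutator_lcs_lcs (j - 1) (i - 1)).trans (le_of_eq (by congr 1; omega))

variable {α : Type*} [DecidableEq α]

/-- The function with value `c` on the sets containing `S`. -/
def sing (S : Finset α) (c : G) : Finset α → G := fun T => if S ⊆ T then c else 1

theorem sing_apply_self (S : Finset α) (c : G) : sing S c S = c := if_pos subset_rfl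

theorem sing_mul (S : Finset α) (c d : G) : sing S c * sing S d = sing S (c * d) := by
  funext T; by_cases h : S ⊆ T <;> simp [sing, h]

theorem sing_inv (S : Finset α) (c : G) : (sing S c)⁻¹ = sing S c⁻¹ := by
  funext T; by_cases h : S ⊆ T <;> simp [sing, h]

theorem sing_comm (S R : Finset α) (c d : G) : ⁅sing S c, sing R d⁆ = sing (S ∪ R) ⁅c, d⁆ := by
  funext T
  by_cases h : S ⊆ T <;> by_cases h' : R ⊆ T <;>
    simp [sing, h, h', Finset.union_subset_iff, commutatorElement_def]

/-- Generators of level `i`, those of size exactly `i` taken only in `Z`. -/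
def gens (i : ℕ) (Z : Finset (Finset α)) : Set (Finset α → G) :=
  {F | ∃ S : Finset α, ∃ c ∈ gam G S.card, (i < S.card ∨ (S.card = i ∧ S ∈ Z)) ∧ F = sing S c}

/-- The subgroup of level `i`. -/
def lvl (i : ℕ) (Z : Finset (Finset α)) : Subgroup (Finset α → G) := Subgroup.closure (gens i Z)

theorem sing_mem {i : ℕ} {Z : Finset (Finset α)} {S : Finset α} {c : G} (hc : c ∈ gam G S.card)
    (h : i < S.card ∨ (S.card = i ∧ S ∈ Z)) : sing S c ∈ lvl i Z :=
  Subgroup.subset_closure ⟨S, c, hc, h, rfl⟩

theorem lvl_succ {i : ℕ} [Fintype α] {F : Finset α → G} (h : F ∈ lvl i (∅ : Finset (Finset α))) :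
    F ∈ lvl (i + 1) (Finset.univ : Finset (Finset α)) := by
  refine Subgroup.closure_mono ?_ h
  rintro _ ⟨S, c, hc, hS, rfl⟩
  rcases hS with hS | ⟨-, hS⟩
  · refine ⟨S, c, hc, ?_, rfl⟩
    rcases Nat.lt_or_ge (i + 1) S.card with h' | h'
    · exact Or.inl h'
    · exact Or.inr ⟨by omega, Finset.mem_univ _⟩
  · simp at hS

theorem lvl_value {i : ℕ} {Z : Finset (Finset α)} {F : Finset α → G} (hF : F ∈ lvl i Z) (T : Finset α) :
    F T ∈ gam G i := by
  induction hF using Subgroup.closure_induction with
  | mem F hF =>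
    obtain ⟨S, c, hc, hS, rfl⟩ := hF
    by_cases h : S ⊆ T
    · rw [sing, if_pos h]; exact gam_anti (by omega) hc
    · rw [sing, if_neg h]; exact one_mem _
  | one => exact one_mem _
  | mul a b _ _ ha hb => exact mul_mem ha hb
  | inv a _ ha => exact inv_mem ha

/-- Splitting off one set of the lowest level. -/
theorem split {i : ℕ} (hi : 1 ≤ i) {Z : Finset (Finset α)} {S : Finset α} (hS : S.card = i) (hZ : S ∉ Z)
    {F : Finset α → G} (hF : F ∈ lvl i (insert S Z)) :
    F S ∈ gam G i ∧ (sing S (F S))⁻¹ * F ∈ lvl i Z := by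
  have hvan : ∀ {F : Finset α → G}, F ∈ lvl i Z → F S = 1 := by
    intro F hF
    induction hF using Subgroup.closure_induction with
    | mem F hF =>
      obtain ⟨R, c, -, hR, rfl⟩ := hF
      refine if_neg fun h => ?_
      rcases hR with hR | ⟨hR, hRZ⟩
      · exact absurd (Finset.card_le_card h) (by omega)
      · exact hZ (Finset.eq_of_subset_of_card_le h (by omega) ▸ hRZ)
    | one => rfl
    | mul a b _ _ ha hb => simp [ha, hb]
    | inv a _ ha => simp [ha]
  have hnorm : ∀ {c : G}, c ∈ gam G i → ∀ {V : Finset α → G}, V ∈ lvl i Z →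
      sing S c * V * (sing S c)⁻¹ ∈ lvl i Z := by
    intro c hc V hV
    induction hV using Subgroup.closure_induction with
    | mem V hV =>
      obtain ⟨R, d, hd, hR, rfl⟩ := hV
      rw [show sing S c * sing R d * (sing S c)⁻¹ = ⁅sing S c, sing R d⁆ * sing R d by
        rw [commutatorElement_def, inv_mul_cancel_right], sing_comm]
      refine mul_mem (sing_mem ?_ (Or.inl ?_)) (sing_mem hd hR)
      · refine gam_anti (i := (S ∪ R).card) (j := S.card + R.card) (Finset.card_union_le S R) ?_
        exact gam_comm (by omega) (by omega) (Subgroup.commutator_mem_commutator (hS.symm ▸ hc) hd)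
      · have h : S ⊂ S ∪ R := by
          refine Finset.ssubset_iff_subset_ne.2 ⟨Finset.subset_union_left, fun h => ?_⟩
          have hRS : R ⊆ S := h ▸ Finset.subset_union_right
          rcases hR with hR | ⟨hR, hRZ⟩
          · exact absurd (Finset.card_le_card hRS) (by omega)
          · exact hZ (Finset.eq_of_subset_of_card_le hRS (by omega) ▸ hRZ)
        exact hS ▸ Finset.card_lt_card h
    | one => simp
    | mul a b _ _ ha hb =>
      rw [show sing S c * (a * b) * (sing S c)⁻¹ =
        (sing S c * a * (sing S c)⁻¹) * (sing S c * b * (sing S c)⁻¹) by group]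
      exact mul_mem ha hb
    | inv a _ ha =>
      rw [show sing S c * a⁻¹ * (sing S c)⁻¹ = (sing S c * a * (sing S c)⁻¹)⁻¹ by group]
      exact inv_mem ha
  suffices ∃ c ∈ gam G i, ∃ V ∈ lvl i Z, F = sing S c * V by
    obtain ⟨c, hc, V, hV, rfl⟩ := this
    rw [Pi.mul_apply, sing_apply_self, hvan hV, mul_one, inv_mul_cancel_left]
    exact ⟨hc, hV⟩
  have hzero : sing S (1 : G) = 1 := by funext T; simp [sing]
  induction hF using Subgroup.closure_induction with
  | mem F hF =>
    obtain ⟨R, c, hc, hR, rfl⟩ := hF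
    by_cases hRS : R = S
    · subst hRS
      exact ⟨c, hS ▸ hc, 1, one_mem _, (mul_one _).symm⟩
    · refine ⟨1, one_mem _, sing R c, sing_mem hc ?_, by rw [hzero, one_mul]⟩
      exact hR.imp_right (And.imp_right fun h => (Finset.mem_insert.1 h).resolve_left hRS)
  | one => exact ⟨1, one_mem _, 1, one_mem _, by rw [hzero, one_mul]⟩
  | mul a b _ _ ha hb =>
    obtain ⟨c, hc, V, hV, rfl⟩ := ha
    obtain ⟨d, hd, W, hW, rfl⟩ := hb
    refine ⟨c * d, mul_mem hc hd, _, mul_mem (hnorm (inv_mem hd) hV) hW, ?_⟩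
    rw [← sing_mul, ← sing_inv]; group
  | inv a _ ha =>
    obtain ⟨c, hc, V, hV, rfl⟩ := ha
    refine ⟨c⁻¹, inv_mem hc, _, hnorm hc (inv_mem hV), ?_⟩
    rw [← sing_inv]; group

/-- Splitting off a whole family of constant value. -/
theorem split_all {i : ℕ} (hi : 1 ≤ i) (e : G) :
    ∀ (Z : Finset (Finset α)), (∀ S ∈ Z, S.card = i) → ∀ F : Finset α → G, F ∈ lvl i Z → (∀ S ∈ Z, F S = e) →
      (fun T => e ^ (Z.filter (· ⊆ T)).card)⁻¹ * F ∈ lvl i (∅ : Finset (Finset α)) := by
  intro Z
  induction Z using Finset.induction with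
  | empty =>
    intro _ F hF _
    simp only [Finset.filter_empty, Finset.card_empty, pow_zero]
    rw [show (fun _ : Finset α => (1 : G)) = 1 from rfl, inv_one, one_mul]
    exact hF
  | @insert S Z hS ih =>
    intro hZ F hF he
    obtain ⟨-, h⟩ := split hi (hZ S (Finset.mem_insert_self _ _)) hS hF
    rw [he S (Finset.mem_insert_self _ _)] at h
    have h2 := ih (fun R hR => hZ R (Finset.mem_insert_of_mem hR)) _ h fun R hR => by
      have hn : ¬ S ⊆ R := fun hh => hS (Finset.eq_of_subset_of_card_le hh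
        (le_of_eq (by rw [hZ R (Finset.mem_insert_of_mem hR), hZ S (Finset.mem_insert_self _ _)])) ▸ hR)
      simp [sing, hn, he R (Finset.mem_insert_of_mem hR)]
    convert h2 using 1
    funext T
    simp only [Pi.mul_apply, Pi.inv_apply]
    rw [← mul_assoc, ← mul_inv_rev]
    congr 2
    by_cases hT : S ⊆ T
    · rw [Finset.filter_insert, if_pos hT, Finset.card_insert_of_notMem (by simp [hS]), sing, if_pos hT,
        pow_succ']
    · rw [Finset.filter_insert, if_neg hT, sing, if_neg hT, one_mul]

/-- One step of the binomial expansion of a symmetric function. -/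
theorem symm_step [Fintype α] {i : ℕ} (hi : 1 ≤ i) (hiα : i ≤ Fintype.card α) {F : Finset α → G} {f : ℕ → G}
    (hF : F ∈ lvl i (Finset.univ : Finset (Finset α))) (hf : ∀ T, F T = f T.card) :
    f i ∈ gam G i ∧ (fun T : Finset α => f i ^ T.card.choose i)⁻¹ * F ∈
      lvl (i + 1) (Finset.univ : Finset (Finset α)) := by
  obtain ⟨S, -, hS⟩ := Finset.exists_subset_card_eq (s := (Finset.univ : Finset α)) (by simpa using hiα)
  refine ⟨hS ▸ hf S ▸ hS.symm ▸ lvl_value hF S, lvl_succ ?_⟩
  have hF' : F ∈ lvl i ((Finset.univ : Finset α).powersetCard i) := by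
    refine Subgroup.closure_mono ?_ hF
    rintro _ ⟨R, c, hc, hR, rfl⟩
    exact ⟨R, c, hc, hR.imp_right fun h => ⟨h.1, Finset.mem_powersetCard.2 ⟨Finset.subset_univ _, h.1⟩⟩, rfl⟩
  have := split_all hi (f i) _ (fun R hR => (Finset.mem_powersetCard.1 hR).2) F hF'
    fun R hR => by rw [hf, (Finset.mem_powersetCard.1 hR).2]
  convert this using 5 with T
  rw [← Finset.card_powersetCard]
  congr 1
  ext R
  simp only [Finset.mem_powersetCard, Finset.mem_filter, Finset.subset_univ, true_and]
  exact and_comm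

/-- The value on the whole set of a symmetric function of level two. -/
theorem symm_top {p : ℕ} [Fact p.Prime] (hcl : gam G p = ⊥) :
    ∀ (d i : ℕ), 2 ≤ i → p ≤ i + d → ∀ (F : Finset (Fin p) → G) (f : ℕ → G),
      F ∈ lvl i (Finset.univ : Finset (Finset (Fin p))) → (∀ T, F T = f T.card) →
      f p ∈ Cfsg.powerClosure p 1 (gam G 2) := by
  intro d
  induction d with
  | zero =>
    intro i _ hp F f hF hf
    have h : F Finset.univ ∈ gam G p := gam_anti (by omega) (lvl_value hF _)
    rw [hcl, Subgroup.mem_bot, hf, Finset.card_univ, Fintype.card_fin] at h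
    rw [h]
    exact one_mem _
  | succ d ih =>
    intro i hi hp F f hF hf
    rcases Nat.lt_or_ge i p with hip | hip
    · obtain ⟨he, h⟩ := symm_step (by omega) (by simpa using hip.le) hF hf
      have h2 := ih (i + 1) (by omega) (by omega) _ (fun m => (f i ^ m.choose i)⁻¹ * f m) h
        fun T => by simp [hf]
      obtain ⟨q, hq⟩ := (Fact.out : p.Prime).dvd_choose_self (by omega : i ≠ 0) hip
      have h3 : f i ^ p.choose i ∈ Cfsg.powerClosure p 1 (gam G 2) :=
        Subgroup.subset_closure ⟨f i ^ q, pow_mem (gam_anti hi he) q, by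
          rw [pow_one, ← pow_mul, hq, Nat.mul_comm]⟩
      simpa using mul_mem h3 h2
    · have h : F Finset.univ ∈ gam G p := gam_anti hip (lvl_value hF _)
      rw [hcl, Subgroup.mem_bot, hf, Finset.card_univ, Fintype.card_fin] at h
      rw [h]
      exact one_mem _

/-- `a^p b^p` and `(ab)^p` differ by a product of `p`-th powers in the derived group. -/
theorem pow_mul_pow_mem {p : ℕ} [hp : Fact p.Prime] (hcl : gam G p = ⊥) (a b : G) :
    ((a * b) ^ p)⁻¹ * (a ^ p * b ^ p) ∈ Cfsg.powerClosure p 1 (gam G 2) := by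
  classical
  have hg1 : ∀ g : G, g ∈ gam G 1 := fun g => by simp [gam]
  have hlin : ∀ g : G, (fun T : Finset (Fin p) => g ^ T.card) ∈ lvl 1 (Finset.univ : Finset (Finset (Fin p))) := by
    intro g
    suffices ∀ U : Finset (Fin p), (fun T : Finset (Fin p) => g ^ (U ∩ T).card) ∈
        lvl 1 (Finset.univ : Finset (Finset (Fin p))) by simpa using this Finset.univ
    intro U
    induction U using Finset.induction with
    | empty => simp only [Finset.empty_inter, Finset.card_empty, pow_zero]; exact one_mem _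
    | @insert x U hx ih =>
      have h := mul_mem (sing_mem (S := {x}) (c := g) (by simpa using hg1 g)
        (Or.inr ⟨Finset.card_singleton x, Finset.mem_univ _⟩)) ih
      convert h using 1
      funext T
      by_cases hT : x ∈ T
      · simp [sing, hT, Finset.insert_inter_of_mem, hx, pow_succ']
      · simp [sing, hT, Finset.insert_inter_of_notMem]
  have hF := mul_mem (inv_mem (hlin (a * b))) (mul_mem (hlin a) (hlin b))
  obtain ⟨-, h2⟩ := symm_step le_rfl (by simpa using hp.out.one_lt.le)
    (f := fun m => ((a * b) ^ m)⁻¹ * (a ^ m * b ^ m)) hF fun T => by simp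
  refine symm_top hcl p 2 le_rfl (by omega) _ (fun m => ((a * b) ^ m)⁻¹ * (a ^ m * b ^ m)) ?_ fun T => rfl
  convert h2 using 1
  funext T
  simp

section finite

open CfsgLib.PLocalBasics

theorem gam_map_le {H : Type*} [Group H] (f : H →* G) (i : ℕ) : (gam H i).map f ≤ gam G i := by
  rw [gam, Subgroup.map_lowerCentralSeries]
  exact Subgroup.lowerCentralSeries_mono _ le_top

theorem gam_sub_eq_bot {p : ℕ} (hcl : gam G p = ⊥) (H : Subgroup G) : gam ↥H p = ⊥ := by
  rw [← Subgroup.map_eq_bot_iff_of_injective _ H.subtype_injective, eq_bot_iff, ← hcl]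
  exact gam_map_le H.subtype p

variable [Finite G] {p : ℕ} [Fact p.Prime]

/-- A `p`-group of class less than `p` satisfies the one-step condition. -/
theorem stepCond : ∀ (n : ℕ) (G : Type*) [Group G] [Finite G], Nat.card G = n → IsPGroup p G →
    gam G p = ⊥ → StepCond p G := by
  intro n
  induction n using Nat.strong_induction_on with
  | _ n ih =>
  intro G _ _ hn hG hcl a b
  set H := pairGen a b
  let a' : H := ⟨a, left_mem_pairGen a b⟩
  let b' : H := ⟨b, right_mem_pairGen a b⟩
  have h := pow_mul_pow_mem (p := p) (gam_sub_eq_bot hcl H) a' b'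
  set D : Subgroup G := ⁅H, H⁆ with hD
  have hle : (gam H 2).map H.subtype = D := by
    rw [show gam H 2 = commutator H from Subgroup.top_lowerCentralSeries_one, Subgroup.map_subtype_commutator]
  obtain ⟨w, hw, hwe⟩ : ∃ w ∈ Cfsg.powerClosure p 1 D, w = ((a * b) ^ p)⁻¹ * (a ^ p * b ^ p) := by
    refine ⟨_, ?_, rfl⟩
    have := Subgroup.mem_map_of_mem H.subtype h
    rw [Cfsg.powerClosure, MonoidHom.map_closure] at this
    have h' := Subgroup.closure_mono (k := {y : G | ∃ x ∈ D, y = x ^ p ^ 1}) ?_ this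
    · rw [Cfsg.powerClosure]
      convert h' using 1
      simp [a', b']
    · rintro _ ⟨_, ⟨y, hy, rfl⟩, rfl⟩
      exact ⟨(y : G), hle ▸ Subgroup.mem_map_of_mem _ hy, by simp⟩
  suffices ∃ d ∈ D, w = d ^ p by
    obtain ⟨d, hd, rfl⟩ := this
    exact ⟨d⁻¹, inv_mem hd, by rw [inv_pow, hwe]; group⟩
  by_cases hDt : Nat.card D < n
  · have hCD : StepCond p ↥D := ih _ hDt D rfl (hG.to_subgroup D) (gam_sub_eq_bot hcl D)
    have hw' : ∃ v : D, (v : G) = w ∧ v ∈ Cfsg.powerClosure p 1 (⊤ : Subgroup D) := by
      have : Cfsg.powerClosure p 1 D ≤ (Cfsg.powerClosure p 1 (⊤ : Subgroup D)).map D.subtype := by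
        refine (Subgroup.closure_le _).2 ?_
        rintro _ ⟨y, hy, rfl⟩
        exact ⟨(⟨y, hy⟩ : D) ^ (p ^ 1), Subgroup.subset_closure ⟨⟨y, hy⟩, Subgroup.mem_top _, rfl⟩, by simp⟩
      obtain ⟨v, hv, hve⟩ := this hw
      exact ⟨v, hve, hv⟩
    obtain ⟨v, hve, hv⟩ := hw'
    obtain ⟨d, -, hd⟩ := mem_powerClosure_step (hG.to_subgroup D) hCD 1 ⊤ v hv
    exact ⟨(d : G), d.2, by rw [← hve, hd, SubgroupClass.coe_pow, pow_one]⟩
  · have htop : D = ⊤ := Subgroup.eq_top_of_card_eq D
      (le_antisymm (Subgroup.card_le_card_group D) (hn ▸ not_lt.1 hDt))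
    have hbot : (⊤ : Subgroup G) = ⊥ := by
      have h1 : gam G 2 = ⊤ := by
        rw [eq_top_iff, ← htop, show gam G 2 = commutator G from Subgroup.top_lowerCentralSeries_one,
          commutator_def]
        exact Subgroup.commutator_mono le_top le_top
      have h2 : ∀ i, gam G (i + 1) = ⊤ := by
        intro i
        induction i with
        | zero => rfl
        | succ i hi =>
          show (⊤ : Subgroup G).lowerCentralSeries (i + 1) = ⊤
          rw [Subgroup.lowerCentralSeries_succ]
          show ⁅gam G (i + 1), ⊤⁆ = ⊤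
          rw [hi]
          exact h1
      rw [← hcl, ← h2 (p - 1), Nat.sub_add_cancel (Fact.out : p.Prime).one_lt.le]
    haveI : Subsingleton G := Subgroup.subsingleton_iff.mp (subsingleton_of_bot_eq_top hbot.symm)
    exact ⟨1, one_mem _, Subsingleton.elim _ _⟩

theorem regular (hG : IsPGroup p G) (hcl : (⊤ : Subgroup G).lowerCentralSeries (p - 1) = ⊥) :
    Cfsg.IsRegularPGroup p G :=
  regular_of_step hG (stepCond _ G rfl hG hcl)

end finite

end CfsgLib.RegularClass
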